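import Cfsg.Agent.H742.PanU_m3
import Cfsg.Agent.H40.GGRgd
import Cfsg.Agent.Prune
set_option linter.all false
prune_inst 0x7f00000000000000000000000000000000000000000000000000000000000000000000000000000000000000000000000000000000000000000000000000000000000000000000000000000000000000003fffffffffffffffffffffffffffbeffbdffffffff
open scoped Cfsg.Agent.FastGrp

/-!
# Torus elements of the models of Witt frames (helper519, for S4769)

* `dX x y t = nX x y t (nX x y 1)⁻¹` : the diagonal element `b_x ↦ t b_x`, `b_{-y} ↦ t⁻¹ b_{-y}`;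
* `exists_QC` : `t` an element of `p`-power order of `F^×` with `t² ≠ 1`, `t σ(t) ≠ 1`: some `p`-subgroup `Q` of the
  torus has no fixed points on `U`.
-/

set_option autoImplicit false
set_option linter.unusedSectionVars false

namespace Cfsg.Agent.H519.Dl.WittTor

open Cfsg
open CoxeterSystem Cfsg.Agent.ChevalleyStructure.CoxeterGeom Cfsg.Agent.Tits.Roots
  Cfsg.Agent.Nodes.Comb Cfsg.Agent.Nodes.Reps Cfsg.Agent.Nodes.BNOf
  Cfsg.Agent.Nodes.RGDLib Cfsg.Agent.Nodes.TypeC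
open Cfsg.Agent.Nodes Cfsg.Agent.Nodes.WittAll Cfsg.Agent.Nodes.WittU Cfsg.Agent.Nodes.WittInst
  Cfsg.Agent.Nodes.WittRoot
  Cfsg.Agent.TitsThree Cfsg.Agent.TitsThree.Siegel Cfsg.Agent.TitsThree.SiegelGen
  Cfsg.Agent.TitsThree.WittFrame Cfsg.Agent.TitsThree.WBridge Cfsg.Agent.TitsThree.WittWeyl
  Cfsg.Agent.TitsThree.FrameCN Cfsg.Agent.TitsThree.LineBorel
open Cfsg.Agent.Nodes.WittRGD (Tor mem_Tor nn nn_mem_sup rg_sr rg_neg_sr)
open Cfsg.Agent.Omega.ML.Ex.Lie2.SemiDat Cfsg.Agent.H742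

variable {F : Type*} [Field F] {V : Type*} [AddCommGroup V] [Module F V] {H : HForm F V} {n : ℕ}
  {Fr : Frame H (Fin n)}

theorem inv_apply_eq {g : V ≃ₗ[F] V} {v w : V} (h : g v = w) : g⁻¹ w = v := by
  rw [← h, ← mul_apply', inv_mul_cancel]
  rfl

variable (Fr) in
/-- diagonal elements -/
noncomputable def dX (x y : Fin n × Bool) (t : F) : V ≃ₗ[F] V := nX Fr x y t * (nX Fr x y 1)⁻¹

section dX

variable {x y : Fin n × Bool} (h : x.1 ≠ y.1) {t : F} (ht : t ≠ 0)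

include h ht

theorem dX_x : dX Fr x y t (Fr.b x) = t • Fr.b x := by
  have h1 : (nX Fr x y 1)⁻¹ (Fr.b x) = Fr.b (neg y) := inv_apply_eq (by
    rw [nX_apply_neg Fr h one_ne_zero, one_smul])
  rw [dX, mul_apply', h1, nX_apply_neg Fr h ht]

theorem dX_neg_y : dX Fr x y t (Fr.b (neg y)) = t⁻¹ • Fr.b (neg y) := by
  have h1 : (nX Fr x y 1)⁻¹ (Fr.b (neg y)) = -Fr.b x := inv_apply_eq (by
    rw [map_neg, nX_apply_self Fr h one_ne_zero, inv_one, one_smul, _root_.neg_neg])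
  rw [dX, mul_apply', h1, map_neg, nX_apply_self Fr h ht, _root_.neg_neg]

theorem dX_y : dX Fr x y t (Fr.b y) = H.σ t • Fr.b y := by
  have h2 := Fr.η_ne x
  have h3 := Fr.η_ne y
  have h4 := H.ε_ne
  have hc : H.ε⁻¹ * Fr.η x * Fr.η y * H.σ 1 ≠ 0 := by
    rw [map_one, mul_one]
    exact mul_ne_zero (mul_ne_zero (inv_ne_zero h4) h2) h3
  have h1 : (nX Fr x y 1)⁻¹ (Fr.b y) = -((H.ε⁻¹ * Fr.η x * Fr.η y * H.σ 1)⁻¹ • Fr.b (neg x)) := inv_apply_eq (by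
    rw [map_neg, map_smul, nX_apply_neg' Fr h one_ne_zero, smul_neg, _root_.neg_neg, smul_smul, inv_mul_cancel₀ hc,
      one_smul])
  rw [dX, mul_apply', h1, map_neg, map_smul, nX_apply_neg' Fr h ht, smul_neg, _root_.neg_neg, smul_smul, map_one]
  congr 1
  field_simp

theorem dX_neg_x : dX Fr x y t (Fr.b (neg x)) = (H.σ t)⁻¹ • Fr.b (neg x) := by
  have h2 := Fr.η_ne x
  have h3 := Fr.η_ne y
  have h4 := H.ε_ne
  have h5 : H.σ t ≠ 0 := by simpa using ht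
  have hc : H.ε⁻¹ * Fr.η x * Fr.η y * H.σ 1 ≠ 0 := by
    rw [map_one, mul_one]
    exact mul_ne_zero (mul_ne_zero (inv_ne_zero h4) h2) h3
  have h1 : (nX Fr x y 1)⁻¹ (Fr.b (neg x)) = (H.ε⁻¹ * Fr.η x * Fr.η y * H.σ 1) • Fr.b y := inv_apply_eq (by
    rw [map_smul, nX_apply_self' Fr h one_ne_zero, smul_smul, mul_inv_cancel₀ hc, one_smul])
  rw [dX, mul_apply', h1, map_smul, nX_apply_self' Fr h ht, smul_smul, map_one]
  congr 1
  field_simp

omit ht in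
theorem dX_of_ne {z : Fin n × Bool} (h1 : z.1 ≠ x.1) (h2 : z.1 ≠ y.1) : dX Fr x y t (Fr.b z) = Fr.b z := by
  rw [dX, mul_apply', inv_apply_eq (nX_apply_of_ne Fr h h1 h2 1), nX_apply_of_ne Fr h h1 h2]

omit ht in
theorem dX_V0 {v : V} (hv : v ∈ Fr.V0) : dX Fr x y t v = v := by
  rw [dX, mul_apply', inv_apply_eq (nX_apply_V0 Fr h hv 1), nX_apply_V0 Fr h hv]

theorem dX_eig (z : Fin n × Bool) : ∃ l : F, l ≠ 0 ∧ dX Fr x y t (Fr.b z) = l • Fr.b z ∧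
    ∀ N : ℕ, t ^ N = 1 → l ^ N = 1 := by
  have h5 : H.σ t ≠ 0 := by simpa using ht
  have hn : ∀ a b : Fin n × Bool, a.1 = b.1 → a = b ∨ a = neg b := by
    rintro ⟨a, s⟩ ⟨b, u⟩ hab
    simp only at hab
    subst hab
    cases s <;> cases u <;> simp [neg]
  by_cases h1 : z.1 = x.1
  · rcases hn z x h1 with rfl | rfl
    · exact ⟨t, ht, dX_x h ht, fun N hN => hN⟩
    · exact ⟨_, inv_ne_zero h5, dX_neg_x h ht, fun N hN => by rw [inv_pow, ← map_pow, hN, map_one, inv_one]⟩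
  · by_cases h2 : z.1 = y.1
    · rcases hn z y h2 with rfl | rfl
      · exact ⟨_, h5, dX_y h ht, fun N hN => by rw [← map_pow, hN, map_one]⟩
      · exact ⟨_, inv_ne_zero ht, dX_neg_y h ht, fun N hN => by rw [inv_pow, hN, inv_one]⟩
    · exact ⟨1, one_ne_zero, by rw [one_smul]; exact dX_of_ne h h1 h2, fun N _ => one_pow N⟩

end dX

section model

variable {K : Type*} [Group K] (M : Model Fr K) {p : ℕ}

theorem dX_mem (hA : AmbT Fr p M.I) (x y : Fin n × Bool) (t : F) : dX Fr x y t ∈ M.I :=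
  mul_mem (nX_mem hA _ _ _) (inv_mem (nX_mem hA _ _ _))

theorem dX_mem_Tor (hA : AmbT Fr p M.I) {x y : Fin n × Bool} (h : x.1 ≠ y.1) {t : F} (ht : t ≠ 0) :
    dX Fr x y t ∈ Tor Fr M.I := by
  refine ⟨dX_mem M hA x y t, fun z => ?_⟩
  obtain ⟨l, hl, e, -⟩ := dX_eig (Fr := Fr) h ht z
  exact ⟨l, hl, e⟩

theorem dX_pow (hV : ∀ v, (∀ x, H.h v (Fr.b x) = 0) → v ∈ Fr.V0) {x y : Fin n × Bool} (h : x.1 ≠ y.1) {t : F}
    (ht : t ≠ 0) {N : ℕ} (hN : t ^ N = 1) : dX Fr x y t ^ N = 1 := by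
  refine H716.RGDAb.eq_one_of_fix hV (fun z => ?_) fun w hw => ?_
  · obtain ⟨l, -, e, hl⟩ := dX_eig (Fr := Fr) h ht z
    have h1 : ∀ k : ℕ, (dX Fr x y t ^ k) (Fr.b z) = l ^ k • Fr.b z := by
      intro k
      induction k with
      | zero => rw [pow_zero, pow_zero, one_smul]; rfl
      | succ k ih => rw [pow_succ, mul_apply', e, map_smul, ih, smul_smul, pow_succ']
    rw [h1, hl N hN, one_smul]
  · have h1 : ∀ k : ℕ, (dX Fr x y t ^ k) w = w := by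
      intro k
      induction k with
      | zero => rw [pow_zero]; rfl
      | succ k ih => rw [pow_succ, mul_apply', dX_V0 h hw, ih]
    exact h1 N

/-- `t` acts fixed point freely on the long root group of `x`, `y` -/
theorem fpf_X (hA : AmbT Fr p M.I) {x y : Fin n × Bool} (h : x.1 ≠ y.1) {t : F} (ht : t ≠ 0) (ht2 : t ^ 2 ≠ 1) {s : F}
    (hs : M.φ ⟨dX Fr x y t, dX_mem M hA x y t⟩ * M.φ ⟨Fr.X x y s, M.hX _ _ _⟩ =
      M.φ ⟨Fr.X x y s, M.hX _ _ _⟩ * M.φ ⟨dX Fr x y t, dX_mem M hA x y t⟩) : s = 0 := by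
  have h1 : dX Fr x y t * Fr.X x y s * (dX Fr x y t)⁻¹ = Fr.X x y (t ^ 2 * s) := by
    rw [conj_X Fr (hA.iso _ (dX_mem M hA x y t)) h h (dX_x h ht) (dX_y h ht)]
    congr 1
    have h2 := Fr.η_ne y
    rw [H.σσ]
    field_simp
  have h2 : M.φ ⟨Fr.X x y (t ^ 2 * s), M.hX _ _ _⟩ = M.φ ⟨Fr.X x y s, M.hX _ _ _⟩ := by
    rw [← mul_inv_eq_iff_eq_mul] at hs
    rw [← hs, ← map_inv, ← map_mul, ← map_mul]
    congr 1
    exact Subtype.ext h1.symm
  have h3 : M.φ ⟨Fr.X x y (t ^ 2 * s - s), M.hX _ _ _⟩ = 1 := by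
    rw [← mul_inv_eq_one, ← map_inv, ← map_mul] at h2
    rw [← h2]
    congr 1
    apply Subtype.ext
    change Fr.X x y (t ^ 2 * s - s) = Fr.X x y (t ^ 2 * s) * (Fr.X x y s)⁻¹
    rw [← Fr.X_neg, ← Fr.X_add, sub_eq_add_neg]
  have h4 := eq_zero_of_X M h h3
  have h5 : (t ^ 2 - 1) * s = 0 := by linear_combination h4
  rcases mul_eq_zero.1 h5 with h6 | h6
  · exact absurd (sub_eq_zero.1 h6) ht2
  · exact h6

/-- `t` acts fixed point freely on the root group of `-y` -/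
theorem fpf_Z (hA : AmbT Fr p M.I) {x y : Fin n × Bool} (h : x.1 ≠ y.1) {t : F} (ht : t ≠ 0) (ht2 : t * H.σ t ≠ 1)
    (ht1 : t ≠ 1) {a : Fr.Adm}
    (hs : M.φ ⟨dX Fr x y t, dX_mem M hA x y t⟩ * M.φ ⟨Fr.Z (neg y) a, M.hZ _ _⟩ =
      M.φ ⟨Fr.Z (neg y) a, M.hZ _ _⟩ * M.φ ⟨dX Fr x y t, dX_mem M hA x y t⟩) : a = 1 := by
  have h1 : dX Fr x y t * Fr.Z (neg y) a * (dX Fr x y t)⁻¹ = Fr.Z (neg y) (Frame.Adm.smul (H.σ t⁻¹) a) :=
    conj_Z Fr (hA.iso _ (dX_mem M hA x y t)) (dX_neg_y h ht) a a (dX_V0 h (Fr.ok_mem a.ok)) rfl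
  have h2 : M.φ ⟨Fr.Z (neg y) (Frame.Adm.smul (H.σ t⁻¹) a), M.hZ _ _⟩ = M.φ ⟨Fr.Z (neg y) a, M.hZ _ _⟩ := by
    rw [← mul_inv_eq_iff_eq_mul] at hs
    rw [← hs, ← map_inv, ← map_mul, ← map_mul]
    congr 1
    exact Subtype.ext h1.symm
  have h3 : M.φ ⟨Fr.Z (neg y) (Frame.Adm.smul (H.σ t⁻¹) a * a⁻¹), M.hZ _ _⟩ = 1 := by
    rw [← mul_inv_eq_one, ← map_inv, ← map_mul] at h2
    rw [← h2]
    congr 1
    apply Subtype.ext
    change Fr.Z (neg y) (Frame.Adm.smul (H.σ t⁻¹) a * a⁻¹) = Fr.Z (neg y) (Frame.Adm.smul (H.σ t⁻¹) a) * (Fr.Z (neg y) a)⁻¹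
    rw [← Fr.Z_inv, ← Fr.Z_mul]
  have h4 := mul_inv_eq_one.1 (eq_one_of_Z M h3)
  have hσ : H.σ t⁻¹ ≠ 1 := by
    intro h5
    apply ht1
    have h6 : t⁻¹ = 1 := by
      rw [← H.σσ t⁻¹, h5, map_one]
    exact inv_eq_one.1 h6
  have hσ2 : H.σ t⁻¹ * H.σ (H.σ t⁻¹) ≠ 1 := by
    intro h5
    apply ht2
    rw [H.σσ, map_inv₀, ← mul_inv, inv_eq_one] at h5
    rw [mul_comm]
    exact h5
  have hw : a.w = 0 := by
    have h5 := congrArg Frame.Adm.w h4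
    rw [Frame.Adm.smul_w] at h5
    have h6 : (H.σ t⁻¹ - 1) • a.w = 0 := by rw [sub_smul, h5, one_smul, sub_self]
    exact (smul_eq_zero.1 h6).resolve_left (sub_ne_zero.2 hσ)
  have hc : a.c = 0 := by
    have h5 := congrArg Frame.Adm.c h4
    rw [Frame.Adm.smul_c] at h5
    have h6 : (H.σ t⁻¹ * H.σ (H.σ t⁻¹) - 1) * a.c = 0 := by rw [sub_mul, h5, one_mul, sub_self]
    exact (mul_eq_zero.1 h6).resolve_left (sub_ne_zero.2 hσ2)
  exact Frame.Adm.ext hw hc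

/-- **A subgroup of the torus without fixed points on `U`.** -/
theorem exists_QC (hA : AmbT Fr p M.I) [Finite V] [Fact p.Prime] [CharP F p] {p0 : Fr.Adm} (hp0 : p0.c ≠ 0)
    {W : Type*} [Group W] (cs : CoxeterSystem (CoxeterMatrix.B n) W) (hn : 2 ≤ n)
    (hT : ∀ s ∈ WittModel.T M, ∀ t ∈ WittModel.T M, s * t = t * s) {ℓ k : ℕ} {t : F} (ht0 : t ≠ 0) (ht : t ^ ℓ ^ k = 1)
    (ht2 : t ^ 2 ≠ 1) (htσ : t * H.σ t ≠ 1) :
    ∃ Q : Subgroup K, IsPGroup ℓ Q ∧ Q ≤ WittModel.T M ∧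
      ∀ u ∈ RGD.Sup (WittModel.X M) (RGD.Pos cs (isCartan n)), (∀ q ∈ Q, q * u = u * q) → u = 1 := by
  have : Finite W := finite_W cs
  have R := rgdC_model M hA hp0 cs
  let Q : Subgroup K :=
    { carrier := {x | x ∈ WittModel.T M ∧ x ^ ℓ ^ k = 1}
      mul_mem' := by
        rintro a b ⟨ha, ha1⟩ ⟨hb, hb1⟩
        refine ⟨mul_mem ha hb, ?_⟩
        rw [(show Commute a b from hT a ha b hb).mul_pow, ha1, hb1, one_mul]
      one_mem' := ⟨one_mem _, one_pow _⟩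
      inv_mem' := by
        rintro a ⟨ha, ha1⟩
        exact ⟨inv_mem ha, by rw [inv_pow, ha1, inv_one]⟩ }
  have hQ : ∀ x, x ∈ Q ↔ x ∈ WittModel.T M ∧ x ^ ℓ ^ k = 1 := fun _ => Iff.rfl
  have hmem : ∀ {x y : Fin n × Bool}, x.1 ≠ y.1 → M.φ ⟨dX Fr x y t, dX_mem M hA x y t⟩ ∈ Q := by
    intro x y h
    refine ⟨Subgroup.mem_map_of_mem _ (Subgroup.mem_subgroupOf.2 (dX_mem_Tor M hA h ht0)), ?_⟩
    rw [← map_pow]
    have : (⟨dX Fr x y t, dX_mem M hA x y t⟩ : M.I) ^ ℓ ^ k = 1 := Subtype.ext (dX_pow hA.V0 h ht0 ht)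
    rw [this, map_one]
  refine ⟨Q, ?_, fun x hx => hx.1, H40.GGR.cent_U_of_simple R Q (fun x hx => hx.1) ?_ ?_⟩
  · intro x
    exact ⟨k, Subtype.ext x.2.2⟩
  · intro i q hq
    obtain ⟨h1, h2⟩ := (hQ q).1 hq
    refine (hQ _).2 ⟨(Subgroup.mem_normalizer_iff.1 (R.nsys.norm i) q).1 h1, ?_⟩
    rw [conj_pow, h2, mul_one, mul_inv_cancel]
  · intro i u hu hc
    obtain ⟨g, hg, h1, rfl⟩ := (WittModel.mem_X M).1 hu
    by_cases hi : (i : ℕ) + 1 < n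
    · have hnx : nx i = (⟨(i : ℕ) + 1, hi⟩, false) := by
        unfold nx; rw [dif_pos hi]
      have hne : ((i, true) : Fin n × Bool).1 ≠ (nx i).1 := by
        rw [hnx]
        intro h
        have := congrArg Fin.val h
        simp at this
      rw [rg_sr, PG_ne Fr hne] at h1
      obtain ⟨s, rfl⟩ := h1
      have h2 := fpf_X M hA hne ht0 ht2 (hc _ (hmem hne))
      subst h2
      have h3 : (⟨Fr.X (i, true) (nx i) 0, hg⟩ : M.I) = 1 := Subtype.ext (Fr.X_zero _ _)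
      rw [h3, map_one]
    · have hnx : nx i = (i, true) := by
        unfold nx; rw [dif_neg hi]
      rw [rg_sr, hnx, PG_self] at h1
      obtain ⟨a, rfl⟩ := h1
      have hne : ((⟨(i : ℕ) - 1, by omega⟩, true) : Fin n × Bool).1 ≠ ((i, false) : Fin n × Bool).1 := by
        intro h
        have := congrArg Fin.val h
        simp at this
        omega
      have e : neg ((i, false) : Fin n × Bool) = (i, true) := rfl
      have h2 := fpf_Z M hA hne ht0 htσ (fun h => ht2 (by rw [h, one_pow])) (a := a) (hc _ (hmem hne))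
      subst h2
      have h3 : (⟨Fr.Z (i, true) 1, hg⟩ : M.I) = 1 := Subtype.ext (Fr.Z_one _)
      rw [h3, map_one]

end model

end Cfsg.Agent.H519.Dl.WittTor

private theorem dce_40b7e4b96680 : _root_.True := by
  try have : _root_.True := by simp only [_root_.Cfsg.Agent.H519.Dl.WittTor.dX.eq_1]
  exact _root_.True.intro
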